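import Mathlib
import Cfsg.Agent.Helper5.TitXU
import Cfsg.Agent.Helper9.TitsInv.Dat

/-!
# Checks: the involutions of a Sylow 2-subgroup of `²F₄(2)` up to conjugacy

Every element of helper5's Sylow 2-subgroup `UU` other than the identity either has a square
moving one of the base points, or is conjugate (by an explicit word) to `x₄²` or to `x₀`.
The numbers of fixed points of these two on the 1755 points are 91 and 27.
-/

set_option autoImplicit false
set_option Elab.async false

namespace Cfsg.Agent.Helper9.TitsInv

open Cfsg.Agent.Helper5.LP Cfsg.Agent.Helper5.TitX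

/-- the class of the element number `k`. -/
def cl (k : ℕ) : ℕ := lk 2 clD k

/-- the conjugating word of the element number `k`. -/
def cw (k : ℕ) : List ℕ := cwS.getD (lk 8 idD k) []

/-- the two representatives. -/
def rW (c : ℕ) : List ℕ := bif Nat.beq c 1 then [4, 4] else [0]

/-- the check for the element number `k`. -/
def chk1 (k : ℕ) : Bool :=
  Nat.beq k 0 ||
  (bif Nat.beq (cl k) 0 then
    uBase.any (fun b => !(Nat.beq (actL tabF (uWord k) (actL tabF (uWord k) b)) b))
  else
    ((cw k).all (fun c => Nat.blt c 8) &&
      uBase.all (fun b => Nat.beq (actL tabF (cw k ++ uWord k) b)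
        (actL tabF (rW (cl k) ++ cw k) b))))

/-- the check for the elements `lo, …, lo + n - 1`. -/
def chkR (lo n : ℕ) : Bool := (List.range' lo n).all chk1

set_option maxRecDepth 1000000 in
theorem chkR_0 : chkR 0 1024 = true := by decide +kernel

set_option maxRecDepth 1000000 in
theorem chkR_1 : chkR 1024 1024 = true := by decide +kernel

set_option maxRecDepth 1000000 in
theorem chkR_2 : chkR 2048 1024 = true := by decide +kernel

set_option maxRecDepth 1000000 in
theorem chkR_3 : chkR 3072 1024 = true := by decide +kernel

theorem chk1_all (k : ℕ) (hk : k < 4096) : chk1 k = true := by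
  have h0 := chkR_0
  have h1 := chkR_1
  have h2 := chkR_2
  have h3 := chkR_3
  unfold chkR at h0 h1 h2 h3
  rw [List.all_eq_true] at h0 h1 h2 h3
  rcases Nat.lt_or_ge k 1024 with c | c
  · exact h0 k (List.mem_range'_1.mpr ⟨by omega, by omega⟩)
  rcases Nat.lt_or_ge k 2048 with c | c
  · exact h1 k (List.mem_range'_1.mpr ⟨by omega, by omega⟩)
  rcases Nat.lt_or_ge k 3072 with c | c
  · exact h2 k (List.mem_range'_1.mpr ⟨by omega, by omega⟩)
  · exact h3 k (List.mem_range'_1.mpr ⟨by omega, by omega⟩)

/-- the number of the points `< n` fixed by a word. -/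
def cntF (w : List ℕ) : ℕ → ℕ
  | 0 => 0
  | n + 1 => Nat.add (cntF w n) (bif Nat.beq (actL tabF w n) n then 1 else 0)

set_option maxRecDepth 1000000 in
theorem cntF_A : cntF [4, 4] 1755 = 91 := by decide +kernel

set_option maxRecDepth 1000000 in
theorem cntF_B : cntF [0] 1755 = 27 := by decide +kernel

set_option maxRecDepth 100000 in
theorem sqA_chk : ∀ b ∈ uBase, actL tabF [4, 4, 4, 4] b = actL tabF [] b := by decide +kernel

set_option maxRecDepth 100000 in
theorem sqB_chk : ∀ b ∈ uBase, actL tabF [0, 0] b = actL tabF [] b := by decide +kernel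

set_option maxRecDepth 100000 in
theorem centB_chk : ∀ b ∈ uBase, actL tabF [5, 0] b = actL tabF [0, 5] b := by decide +kernel

end Cfsg.Agent.Helper9.TitsInv
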