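import Mathlib
import Cfsg.Agent.Helper5.TitXU
import Cfsg.Agent.Helper9.TitsInv.Chk

/-!
# The Tits group has exactly two classes of involutions

On helper5's model (`GG = ²F₄(2)`, `T0` its commutator subgroup, the action `rho` on 1755
points): every involution of `GG` is conjugate into the Sylow 2-subgroup `UU`; each of the 143
involutions of `UU` is conjugate, by an explicit word, to `x₄²` (91 fixed points) or to `x₀`
(27 fixed points); both of these are centralised by an element outside `T0`, so that the
conjugating element can be taken in `T0`.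
-/

set_option autoImplicit false

namespace Cfsg.Agent.Helper9.TitsInv

open Cfsg.Agent.Helper5.LP Cfsg.Agent.Helper5.TitX

/-! ### the number of fixed points -/

/-- the number of fixed points on the 1755 points. -/
noncomputable def fp (x : GG) : ℕ := (Finset.univ.filter (fun v : Fin 1755 => rho x v = v)).card

theorem fp_conj (c x : GG) : fp (c * x * c⁻¹) = fp x := by
  unfold fp
  symm
  apply Finset.card_bij (fun v _ => rho c v)
  · intro v hv
    rw [Finset.mem_filter] at hv ⊢
    refine ⟨Finset.mem_univ _, ?_⟩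
    rw [map_mul, map_mul, map_inv, Equiv.Perm.mul_apply, Equiv.Perm.mul_apply,
      Equiv.Perm.inv_def, Equiv.symm_apply_apply, hv.2]
  · intro v _ w _ h
    exact (rho c).injective h
  · intro w hw
    rw [Finset.mem_filter] at hw
    refine ⟨(rho c)⁻¹ w, ?_, Equiv.apply_symm_apply _ _⟩
    rw [Finset.mem_filter]
    refine ⟨Finset.mem_univ _, ?_⟩
    have h2 := hw.2
    rw [map_mul, map_mul, map_inv, Equiv.Perm.mul_apply, Equiv.Perm.mul_apply] at h2
    apply (rho c).injective
    rw [h2]
    exact (Equiv.apply_symm_apply _ _).symm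

theorem fp_one : fp 1 = 1755 := by
  unfold fp
  rw [map_one]
  have h : (Finset.univ.filter (fun v : Fin 1755 => (1 : Equiv.Perm (Fin 1755)) v = v)) =
      Finset.univ := by
    apply Finset.filter_true_of_mem
    intro v _
    rfl
  rw [h, Finset.card_univ, Fintype.card_fin]

theorem sum_range_cntF (w : List ℕ) : ∀ n : ℕ,
    (∑ i ∈ Finset.range n, (bif Nat.beq (actL tabF w i) i then 1 else 0)) = cntF w n
  | 0 => rfl
  | n + 1 => by
    rw [Finset.sum_range_succ, sum_range_cntF w n]
    rfl

theorem fp_eW (w : List ℕ) (hw : ∀ c ∈ w, c < 8) : fp (eW w) = cntF w 1755 := by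
  unfold fp
  rw [Finset.card_filter, ← sum_range_cntF w 1755,
    ← Fin.sum_univ_eq_sum_range (fun i => (bif Nat.beq (actL tabF w i) i then 1 else 0)) 1755]
  apply Finset.sum_congr rfl
  intro v _
  have h := actsOnG.act w hw v
  by_cases hv : rho (eW w) v = v
  · rw [if_pos hv]
    have h2 : actL tabF w v.val = v.val := by rw [← h, hv]
    rw [h2, Nat.beq_refl]
    rfl
  · rw [if_neg hv]
    have h2 : Nat.beq (actL tabF w v.val) v.val = false := by
      rw [Bool.eq_false_iff]
      intro hb
      apply hv
      apply Fin.ext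
      rw [h]
      exact Nat.eq_of_beq_eq_true hb
    rw [h2]
    rfl

/-! ### the two representatives -/

/-- the representative of the class `2A`. -/
def rA : GG := eW [4, 4]

/-- the representative of the class `2B`. -/
def rB : GG := eW [0]

theorem rA_mem : rA ∈ T0 := eW_mem_of_par [4, 4] (by decide) (by decide)

theorem rB_mem : rB ∈ T0 := eW_mem_of_par [0] (by decide) (by decide)

theorem fp_rA : fp rA = 91 := (fp_eW [4, 4] (by decide)).trans cntF_A

theorem fp_rB : fp rB = 27 := (fp_eW [0] (by decide)).trans cntF_B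

theorem rA_sq : rA * rA = 1 := by
  unfold rA
  rw [← eW_append, ← eW_nil]
  exact eW_eq_of_base _ _ (by decide) (by decide) sqA_chk

theorem rB_sq : rB * rB = 1 := by
  unfold rB
  rw [← eW_append, ← eW_nil]
  exact eW_eq_of_base _ _ (by decide) (by decide) sqB_chk

theorem rA_ne : rA ≠ 1 := by
  intro h
  have h1 := fp_rA
  rw [h, fp_one] at h1
  omega

theorem rB_ne : rB ≠ 1 := by
  intro h
  have h1 := fp_rB
  rw [h, fp_one] at h1
  omega

theorem order_rA : orderOf rA = 2 := by
  have : Fact (Nat.Prime 2) := ⟨Nat.prime_two⟩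
  exact orderOf_eq_prime (by rw [pow_two]; exact rA_sq) rA_ne

theorem order_rB : orderOf rB = 2 := by
  have : Fact (Nat.Prime 2) := ⟨Nat.prime_two⟩
  exact orderOf_eq_prime (by rw [pow_two]; exact rB_sq) rB_ne

theorem not_conj_AB (d : GG) : d * rA * d⁻¹ ≠ rB := by
  intro h
  have h1 := fp_conj d rA
  rw [h, fp_rA, fp_rB] at h1
  omega

/-! ### elements outside `T0` centralising the representatives -/

theorem tt_not_mem : tt ∉ T0 := by
  intro h
  have h1 : QuotientGroup.mk' T0 tt = 1 := (mk_eq_one _).mpr h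
  have h2 : T0 = ⊤ := by
    rw [eq_top_iff]
    intro x _
    have h3 := mk_mem_zpowers x
    rw [h1, Subgroup.zpowers_one_eq_bot, Subgroup.mem_bot] at h3
    exact (mk_eq_one x).mp h3
  have h4 := index_T0
  rw [h2, Subgroup.index_top] at h4
  omega

theorem XG5_not_mem : XG 5 ∉ T0 := by
  intro h
  have h1 := XG_high 5 (by norm_num) (by norm_num)
  have h2 : tt⁻¹ ∈ T0 := by
    have h3 := T0.mul_mem h1 (T0.inv_mem h)
    rwa [mul_inv_cancel_right] at h3
  exact tt_not_mem (by simpa using T0.inv_mem h2)

theorem eW_one (c : ℕ) : eW [c] = XG c := eW_single c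

theorem exists_cent (c : ℕ) : ∃ z : GG, z ∉ T0 ∧ z * eW (rW c) = eW (rW c) * z := by
  unfold rW
  cases Nat.beq c 1 with
  | true =>
    refine ⟨eW [4], ?_, ?_⟩
    · rw [eW_one]
      exact tt_not_mem
    · show eW [4] * eW [4, 4] = eW [4, 4] * eW [4]
      rw [← eW_append, ← eW_append]
      rfl
  | false =>
    refine ⟨eW [5], ?_, ?_⟩
    · rw [eW_one]
      exact XG5_not_mem
    · show eW [5] * eW [0] = eW [0] * eW [5]
      rw [← eW_append, ← eW_append]
      exact eW_eq_of_base _ _ (by decide) (by decide) centB_chk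

theorem rW_cases (c : ℕ) : eW (rW c) = rA ∨ eW (rW c) = rB := by
  unfold rW
  cases Nat.beq c 1 with
  | true => exact Or.inl rfl
  | false => exact Or.inr rfl

theorem rW_lt (c : ℕ) : ∀ x ∈ rW c, x < 8 := by
  unfold rW
  cases Nat.beq c 1 with
  | true => decide
  | false => decide

/-! ### the involutions -/

theorem uBase_lt' : ∀ b ∈ uBase, b < 1755 := by decide

theorem not_sq_of_moved (k : ℕ)
    (h1 : uBase.any (fun b => !(Nat.beq (actL tabF (uWord k) (actL tabF (uWord k) b)) b)) = true) :
    eU k * eU k ≠ 1 := by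
  intro h
  rw [List.any_eq_true] at h1
  obtain ⟨b, hb, hne⟩ := h1
  have hbN : b < 1755 := uBase_lt' b hb
  have h2 := actsOnG.act (uWord k ++ uWord k) (by
    intro c hc
    rw [List.mem_append] at hc
    rcases hc with hc | hc <;> exact uWord_lt k c hc) ⟨b, hbN⟩
  rw [eW_append, actL_append] at h2
  have h3 : eW (uWord k) * eW (uWord k) = 1 := h
  rw [h3, map_one] at h2
  have h4 : actL tabF (uWord k) (actL tabF (uWord k) b) = b := h2.symm
  rw [h4] at hne
  simp at hne

/-- every involution of `T0` is conjugate in `T0` to one of the two representatives. -/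
theorem conj_rep (g : GG) (hg : orderOf g = 2) :
    ∃ d : GG, d ∈ T0 ∧ (d * g * d⁻¹ = rA ∨ d * g * d⁻¹ = rB) := by
  obtain ⟨h, hh⟩ := conj_mem_UU g hg
  obtain ⟨k, hk, e⟩ := mem_UU _ hh
  have hgg : g * g = 1 := by
    have h2 := pow_orderOf_eq_one g
    rw [hg, pow_two] at h2
    exact h2
  have hg1 : g ≠ 1 := by
    intro h1
    rw [h1, orderOf_one] at hg
    omega
  have hsq : eU k * eU k = 1 := by
    rw [← e]
    calc (h * g * h⁻¹) * (h * g * h⁻¹) = h * (g * g) * h⁻¹ := by group
      _ = 1 := by rw [hgg]; group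
  have hk0 : k ≠ 0 := by
    rintro rfl
    rw [eU_zero] at e
    apply hg1
    have e2 : g = h⁻¹ * (h * g * h⁻¹) * h := by group
    rw [e2, e]
    group
  have hc := chk1_all k hk
  unfold chk1 at hc
  rw [Bool.or_eq_true] at hc
  rcases hc with hc | hc
  · exact absurd (Nat.eq_of_beq_eq_true hc) hk0
  cases hcl : Nat.beq (cl k) 0 with
  | true =>
    rw [hcl, cond_true] at hc
    exact absurd hsq (not_sq_of_moved k hc)
  | false =>
    rw [hcl, cond_false, Bool.and_eq_true] at hc
    obtain ⟨hlt, hbase⟩ := hc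
    have hcw : ∀ c ∈ cw k, c < 8 := by
      intro c hc'
      have h7 := List.all_eq_true.mp hlt c hc'
      rwa [Nat.blt_eq] at h7
    have key : eW (cw k) * eU k = eW (rW (cl k)) * eW (cw k) := by
      unfold eU
      rw [← eW_append, ← eW_append]
      apply eW_eq_of_base
      · intro c hc'
        rw [List.mem_append] at hc'
        rcases hc' with hc' | hc'
        · exact hcw c hc'
        · exact uWord_lt k c hc'
      · intro c hc'
        rw [List.mem_append] at hc'
        rcases hc' with hc' | hc'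
        · exact rW_lt _ c hc'
        · exact hcw c hc'
      · intro b hb
        exact Nat.eq_of_beq_eq_true (List.all_eq_true.mp hbase b hb)
    obtain ⟨z, hz, hzr⟩ := exists_cent (cl k)
    have hconj : (eW (cw k) * h) * g * (eW (cw k) * h)⁻¹ = eW (rW (cl k)) := by
      have h5 : eW (cw k) * (h * g * h⁻¹) = eW (rW (cl k)) * eW (cw k) := by
        rw [e]
        exact key
      calc (eW (cw k) * h) * g * (eW (cw k) * h)⁻¹
          = eW (cw k) * (h * g * h⁻¹) * (eW (cw k))⁻¹ := by group
        _ = eW (rW (cl k)) * eW (cw k) * (eW (cw k))⁻¹ := by rw [h5]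
        _ = eW (rW (cl k)) := by group
    have hfin : ∃ d : GG, d ∈ T0 ∧ d * g * d⁻¹ = eW (rW (cl k)) := by
      by_cases hd : eW (cw k) * h ∈ T0
      · exact ⟨_, hd, hconj⟩
      · refine ⟨z * (eW (cw k) * h), ?_, ?_⟩
        · rw [Subgroup.mul_mem_iff_of_index_two index_T0]
          exact ⟨fun hz' => absurd hz' hz, fun hd' => absurd hd' hd⟩
        · calc z * (eW (cw k) * h) * g * (z * (eW (cw k) * h))⁻¹
              = z * ((eW (cw k) * h) * g * (eW (cw k) * h)⁻¹) * z⁻¹ := by group
            _ = z * eW (rW (cl k)) * z⁻¹ := by rw [hconj]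
            _ = eW (rW (cl k)) := by rw [hzr]; group
    obtain ⟨d, hd, hdg⟩ := hfin
    rcases rW_cases (cl k) with hr | hr
    · exact ⟨d, hd, Or.inl (hdg.trans hr)⟩
    · exact ⟨d, hd, Or.inr (hdg.trans hr)⟩

/-! ### the count -/

/-- the representative of the class `2A` in `T0`. -/
def rA' : P := ⟨rA, rA_mem⟩

/-- the representative of the class `2B` in `T0`. -/
def rB' : P := ⟨rB, rB_mem⟩

theorem order_rA' : orderOf rA' = 2 := by
  rw [← Subgroup.orderOf_coe]
  exact order_rA

theorem order_rB' : orderOf rB' = 2 := by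
  rw [← Subgroup.orderOf_coe]
  exact order_rB

theorem classes_ne : ConjClasses.mk rA' ≠ ConjClasses.mk rB' := by
  intro h
  rw [ConjClasses.mk_eq_mk_iff_isConj, isConj_iff] at h
  obtain ⟨d, hd⟩ := h
  have h2 : ((d * rA' * d⁻¹ : P) : GG) = ((rB' : P) : GG) := by rw [hd]
  rw [Subgroup.coe_mul, Subgroup.coe_mul, Subgroup.coe_inv] at h2
  exact not_conj_AB d.val h2

/-- **the Tits group (as the subgroup `T0` of helper5's model) has exactly two classes of
involutions.** -/
theorem main_T0 : (ConjClasses.mk '' {g : P | orderOf g = 2}).ncard = 2 := by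
  have hset : ConjClasses.mk '' {g : P | orderOf g = 2} =
      {ConjClasses.mk rA', ConjClasses.mk rB'} := by
    ext C
    constructor
    · rintro ⟨g, hg, rfl⟩
      have hg' : orderOf (g : GG) = 2 := by
        rw [Subgroup.orderOf_coe]
        exact hg
      obtain ⟨d, hd, h | h⟩ := conj_rep g.val hg'
      · left
        rw [ConjClasses.mk_eq_mk_iff_isConj, isConj_iff]
        exact ⟨⟨d, hd⟩, Subtype.ext h⟩
      · right
        rw [Set.mem_singleton_iff, ConjClasses.mk_eq_mk_iff_isConj, isConj_iff]
        exact ⟨⟨d, hd⟩, Subtype.ext h⟩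
    · rintro (rfl | rfl)
      · exact ⟨rA', order_rA', rfl⟩
      · exact ⟨rB', order_rB', rfl⟩
  rw [hset]
  exact Set.ncard_pair classes_ne

theorem main_sub (H : Subgroup GG) (h : H = T0) :
    (ConjClasses.mk '' {g : ↥H | orderOf g = 2}).ncard = 2 := by
  subst h
  exact main_T0

/-- **the Tits group has exactly two conjugacy classes of elements of order 2.** -/
theorem tits_involution_classes :
    (ConjClasses.mk '' {g : Cfsg.Lie.TitsGroup | orderOf g = 2}).ncard = 2 :=
  main_sub (commutator GG) commutator_eq_T0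

end Cfsg.Agent.Helper9.TitsInv
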