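import Mathlib
import Cfsg.Agent.Helper9.TitsInv.Main

/-!
# `²F₄(2)` has exactly two classes of involutions

The same two representatives as for the Tits group (`Cfsg.Agent.Helper9.TitsInv.main_T0`), on
helper5's model `GG = twistedF4 (ZMod 2) 1`.
-/

set_option autoImplicit false

namespace Cfsg.Agent.Helper9.TitsInv

open Cfsg.Agent.Helper5.LP Cfsg.Agent.Helper5.TitX

theorem classes_ne_GG : ConjClasses.mk rA ≠ ConjClasses.mk rB := by
  intro h
  rw [ConjClasses.mk_eq_mk_iff_isConj, isConj_iff] at h
  obtain ⟨d, hd⟩ := h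
  exact not_conj_AB d hd

/-- **`²F₄(2)` (over `ZMod 2`, with the identity as the twist) has exactly two conjugacy classes of
elements of order 2.** -/
theorem main_GG : (ConjClasses.mk '' {g : GG | orderOf g = 2}).ncard = 2 := by
  have hset : ConjClasses.mk '' {g : GG | orderOf g = 2} =
      {ConjClasses.mk rA, ConjClasses.mk rB} := by
    ext C
    constructor
    · rintro ⟨g, hg, rfl⟩
      obtain ⟨d, _, h | h⟩ := conj_rep g hg
      · left
        rw [ConjClasses.mk_eq_mk_iff_isConj, isConj_iff]
        exact ⟨d, h⟩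
      · right
        rw [Set.mem_singleton_iff, ConjClasses.mk_eq_mk_iff_isConj, isConj_iff]
        exact ⟨d, h⟩
    · rintro (rfl | rfl)
      · exact ⟨rA, order_rA, rfl⟩
      · exact ⟨rB, order_rB, rfl⟩
  rw [hset]
  exact Set.ncard_pair classes_ne_GG

/-- the same, stated for the subgroup of `GL` of the definitions. -/
theorem twistedF4_two_involution_classes :
    (ConjClasses.mk '' {g : ↥(Cfsg.Lie.twistedF4 (ZMod 2) 1) | orderOf g = 2}).ncard = 2 :=
  main_GG

end Cfsg.Agent.Helper9.TitsInv
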